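import Groth.Agent.HilbT29.Pair
import Groth.Agent.InfAut29.DualTwist
import Groth.Agent.InfAut29.Basis
import Groth.Agent.OmegaLib.Der
import Groth.Prelude.Def_Omega3
import Mathlib.Topology.Sheaves.SheafCondition.Sites

/-!
# First order deformations of a morphism: points and coordinates
-/

set_option autoImplicit false
set_option backward.isDefEq.respectTransparency.types false
set_option backward.isDefEq.respectTransparency false
set_option linter.style.haveILetI false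

universe u

open CategoryTheory CategoryTheory.Limits AlgebraicGeometry TopologicalSpace Opposite ArtFun ArtFun.Art
open Groth.Agent.ArtGlobal29 Groth.Agent.HilbT29

noncomputable section

namespace Groth.Agent.HomTan29

variable {k : Type u} [Field k] {X Y : Scheme.{u}} (x : X ⟶ specPt k) (y : Y ⟶ specPt k) (f : X ⟶ Y)

/-- Morphisms are determined by their effect on the functions of small affine opens. -/
theorem eq_of_appLE {P Z : Scheme.{u}} (φ φ' : P ⟶ Z)
    (h : ∀ p : P, ∃ (W : P.affineOpens) (V : Z.affineOpens) (e : W.1 ≤ φ ⁻¹ᵁ V.1) (e' : W.1 ≤ φ' ⁻¹ᵁ V.1),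
      p ∈ W.1 ∧ φ.appLE V.1 W.1 e = φ'.appLE V.1 W.1 e') : φ = φ' := by
  choose W V e e' hp he using h
  refine Scheme.Cover.hom_ext (P.openCoverOfIsOpenCover (fun p => (W p).1) ?_) _ _ fun p => ?_
  · exact eq_top_iff.2 fun p _ => Opens.mem_iSup.2 ⟨p, hp p⟩
  show (W p).1.ι ≫ φ = (W p).1.ι ≫ φ'
  rw [← cancel_epi (W p).2.isoSpec.inv, ← Category.assoc, ← Category.assoc]
  show (W p).2.fromSpec ≫ φ = (W p).2.fromSpec ≫ φ'
  rw [← IsAffineOpen.SpecMap_appLE_fromSpec φ (V p).2 _ (e p),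
    ← IsAffineOpen.SpecMap_appLE_fromSpec φ' (V p).2 _ (e' p), he]

/-- Deformations of `f` over `A`. -/
structure Pt (A : Art k k) where
  φ : XA x A ⟶ Y
  hw : φ ≫ y = pr x A ≫ x
  hc : XAincl x A ≫ φ = f

variable {x y f}

theorem Pt.ext' {A : Art k k} {P Q : Pt x y f A} (h : P.φ = Q.φ) : P = Q := by
  cases P; cases Q; cases h; rfl

/-- Restriction of a deformation. -/
def Pt.map {A B : Art k k} (g : A ⟶ B) (P : Pt x y f A) : Pt x y f B where
  φ := XAmap x g ≫ P.φ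
  hw := by rw [Category.assoc, P.hw, ← Category.assoc]; exact congrArg (· ≫ x) (XAmap_fst x g)
  hc := by rw [← Category.assoc, XAincl_XAmap, P.hc]

variable (x) in
theorem exists_incl (A : Art k k) (p : (XA x A : Scheme.{u})) :
    ∃ z : X, XAincl x A z = p ∧ pr x A p = z := by
  haveI := InfAut29.surjective_i (isPullback_incl x A)
  obtain ⟨z, rfl⟩ := (inferInstance : Surjective (XAincl x A)).surj p
  refine ⟨z, rfl, ?_⟩
  rw [← Scheme.Hom.comp_apply, show XAincl x A ≫ pr x A = 𝟙 X from XAincl_fst x A]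
  rfl

theorem Pt.preimage_le {A : Art k k} (P : Pt x y f A) {W : X.Opens} {V : Y.Opens} (h : W ≤ f ⁻¹ᵁ V) :
    pr x A ⁻¹ᵁ W ≤ P.φ ⁻¹ᵁ V := fun p hp => by
  obtain ⟨z, rfl, hz⟩ := exists_incl x A p
  show P.φ (XAincl x A z) ∈ V
  rw [← Scheme.Hom.comp_apply, P.hc]
  exact h (hz ▸ hp)

/-- The pullback of functions along a deformation, on a chart. -/
def Pt.hm {A : Art k k} (P : Pt x y f A) (U : X.affineOpens) (V : Y.Opens) (h : U.1 ≤ f ⁻¹ᵁ V) :
    Γ(Y, V) ⟶ Γ(XA x A, (pU x A U).1) :=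
  P.φ.appLE V (pU x A U).1 (P.preimage_le h)

theorem Pt.hm_map {A B : Art k k} (g : A ⟶ B) (P : Pt x y f A) (U : X.affineOpens) (V : Y.Opens)
    (h : U.1 ≤ f ⁻¹ᵁ V) (s : Γ(Y, V)) : (P.map g).hm U V h s = mapU x A g U (P.hm U V h s) := by
  show (XAmap x g ≫ P.φ).appLE V _ _ s = _
  rw [← Scheme.Hom.appLE_comp_appLE (XAmap x g) P.φ V (pU x A U).1 (pU x B U).1 (P.preimage_le h)
    (map_pU_le x A g U)]
  rfl

theorem Pt.incl_hm {A : Art k k} (P : Pt x y f A) (U : X.affineOpens) (V : Y.Opens) (h : U.1 ≤ f ⁻¹ᵁ V)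
    (s : Γ(Y, V)) : incl x A U (P.hm U V h s) = f.appLE V U.1 h s := by
  show (P.φ.appLE V _ _ ≫ (XAincl x A).appLE _ _ _) s = _
  rw [Scheme.Hom.appLE_comp_appLE]
  simp only [P.hc]

theorem Pt.hm_const {A : Art k k} (P : Pt x y f A) (U : X.affineOpens) (V : Y.Opens) (h : U.1 ≤ f ⁻¹ᵁ V)
    (c : k) : P.hm U V h (strMap y V c) = jm x A U (strMap x U.1 c) := by
  show (y.appLE ⊤ V _ ≫ P.φ.appLE V _ _) ((Scheme.ΓSpecIso (CommRingCat.of k)).inv c) =
    (x.appLE ⊤ U.1 _ ≫ (pr x A).app U.1) ((Scheme.ΓSpecIso (CommRingCat.of k)).inv c)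
  rw [Scheme.Hom.app_eq_appLE, Scheme.Hom.appLE_comp_appLE, Scheme.Hom.appLE_comp_appLE]
  simp only [P.hw]

theorem Pt.eq_of_hm {A : Art k k} {P Q : Pt x y f A}
    (h : ∀ (U : X.affineOpens) (V : Y.affineOpens) (h : U.1 ≤ f ⁻¹ᵁ V.1) s, P.hm U V.1 h s = Q.hm U V.1 h s) :
    P = Q := by
  refine Pt.ext' (eq_of_appLE _ _ fun p => ?_)
  obtain ⟨V, hV, hzV, -⟩ := Opens.isBasis_iff_nbhd.mp Y.isBasis_affineOpens (Opens.mem_top (f (pr x A p)))
  obtain ⟨U, hU, hzU, hUV⟩ := Opens.isBasis_iff_nbhd.mp X.isBasis_affineOpens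
    (show pr x A p ∈ f ⁻¹ᵁ V from hzV)
  exact ⟨pU x A ⟨U, hU⟩, ⟨V, hV⟩, P.preimage_le hUV, Q.preimage_le hUV, hzU,
    CommRingCat.hom_ext (RingHom.ext fun s => h ⟨U, hU⟩ ⟨V, hV⟩ hUV s)⟩

variable (x)

/-- The coefficient of `ε`. -/
def co (U : X.affineOpens) (t : Γ(XA x (Ad k), (pU x (Ad k) U).1)) : Γ(X, U.1) :=
  TrivSqZeroExt.snd ((exists_coords x U).choose t)

theorem co_asm (U : X.affineOpens) (a b : Γ(X, U.1)) : co x U (asm x U a b) = b := by
  rw [co, (exists_coords x U).choose_spec.1, TrivSqZeroExt.snd_add, TrivSqZeroExt.snd_inl, zero_add,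
    TrivSqZeroExt.snd_inr]

theorem asm_incl_co (U : X.affineOpens) (t : Γ(XA x (Ad k), (pU x (Ad k) U).1)) :
    asm x U (incl x (Ad k) U t) (co x U t) = t := by
  obtain ⟨a, b, rfl⟩ := exists_asm x U t
  rw [co_asm, incl_asm]

theorem co_add (U : X.affineOpens) (t t' : Γ(XA x (Ad k), (pU x (Ad k) U).1)) :
    co x U (t + t') = co x U t + co x U t' := by
  simp [co]

theorem co_mul (U : X.affineOpens) (t t' : Γ(XA x (Ad k), (pU x (Ad k) U).1)) :
    co x U (t * t') = incl x (Ad k) U t * co x U t' + incl x (Ad k) U t' * co x U t := by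
  obtain ⟨a, b, rfl⟩ := exists_asm x U t
  obtain ⟨a', b', rfl⟩ := exists_asm x U t'
  rw [asm_mul, co_asm, co_asm, co_asm, incl_asm, incl_asm]
  ring

theorem co_jm (U : X.affineOpens) (a : Γ(X, U.1)) : co x U (jm x (Ad k) U a) = 0 := by
  rw [show jm x (Ad k) U a = asm x U a 0 by simp [asm], co_asm]

theorem co_res {U U' : X.affineOpens} (h : U.1 ≤ U'.1) (t : Γ(XA x (Ad k), (pU x (Ad k) U').1)) :
    co x U ((XA x (Ad k)).presheaf.map (homOfLE (pU_mono x (Ad k) h)).op t) =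
      X.presheaf.map (homOfLE h).op (co x U' t) := by
  obtain ⟨a, b, rfl⟩ := exists_asm x U' t
  rw [res_asm, co_asm, co_asm]

/-- The coefficient of `ε` on all opens. -/
theorem exists_coefW : ∃ β : ∀ W : X.Opens, Γ(XA x (Ad k), pr x (Ad k) ⁻¹ᵁ W) →+ Γ(X, W),
    (∀ {W W' : X.Opens} (h : W ≤ W') (t : Γ(XA x (Ad k), pr x (Ad k) ⁻¹ᵁ W')),
      β W ((XA x (Ad k)).presheaf.map (homOfLE ((pr x (Ad k)).preimage_mono h)).op t) =
        X.presheaf.map (homOfLE h).op (β W' t)) ∧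
    ∀ (U : X.affineOpens) (t : Γ(XA x (Ad k), (pU x (Ad k) U).1)), β U.1 t = co x U t := by
  let F : TopCat.Presheaf Ab.{u} X.toTopCat :=
    (Opens.map (pr x (Ad k)).base).op ⋙ (XA x (Ad k)).presheaf ⋙ forget₂ CommRingCat RingCat ⋙ forget₂ RingCat Ab
  let G : TopCat.Sheaf Ab.{u} X.toTopCat := ⟨(Coh.structureModule X).presheaf, (Coh.structureModule X).isSheaf⟩
  let B : X.affineOpens → X.Opens := fun U => U.1
  have hB : Opens.IsBasis (Set.range B) := by
    convert X.isBasis_affineOpens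
    exact Subtype.range_coe
  let α : (inducedFunctor B).op ⋙ F ⟶ (inducedFunctor B).op ⋙ G.1 :=
    { app := fun j => AddCommGrpCat.ofHom ((OmegaSh.strSect X j.unop.1).comp (AddMonoidHom.mk' (co x j.unop) (co_add x _)))
      naturality := fun j j' g => by
        ext s
        exact congrArg (OmegaSh.strSect X j'.unop.1)
          (co_res x (leOfHom ((inducedFunctor B).map g.unop)) s) }
  let β := TopCat.Sheaf.restrictHomEquivHom F G hB α
  refine ⟨fun W => (OmegaSh.fnSect X W).comp (β.app (op W)).hom, fun {W W'} h t => ?_, fun U t => ?_⟩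
  · exact congrArg (OmegaSh.fnSect X W) (ConcreteCategory.congr_hom (β.naturality (homOfLE h).op) t)
  · show OmegaSh.fnSect X U.1 ((β.app (op (B U))).hom t) = _
    rw [show (β.app (op (B U))).hom t = OmegaSh.strSect X U.1 (co x U t) by
      show ((TopCat.Sheaf.restrictHomEquivHom F G hB α).app (op (B U))).hom t = _
      rw [TopCat.Sheaf.extend_hom_app]
      rfl]
    rfl

end Groth.Agent.HomTan29
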