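import Groth.Agent.HomTan29.Coord

/-!
# First order deformations of a morphism and derivations
-/

set_option autoImplicit false
set_option backward.isDefEq.respectTransparency.types false
set_option backward.isDefEq.respectTransparency false
set_option linter.style.haveILetI false

universe u

open CategoryTheory CategoryTheory.Limits AlgebraicGeometry TopologicalSpace Opposite ArtFun ArtFun.Art
open Groth.Agent.ArtGlobal29 Groth.Agent.HilbT29

noncomputable section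

namespace Groth.Agent.HomTan29

variable {k : Type u} [Field k] {X Y : Scheme.{u}} (x : X ⟶ specPt k) (y : Y ⟶ specPt k) (f : X ⟶ Y)

/-- The functions on the source as a module on the target. -/
abbrev fO : Y.Modules := (Scheme.Modules.pushforward f).obj (Coh.structureModule X)

/-- Values of a derivation. -/
def sec (D : OmegaSh.Der y (fO f)) (V : Y.Opens) (s : Γ(Y, V)) : Γ(X, f ⁻¹ᵁ V) :=
  OmegaSh.fnSect X (f ⁻¹ᵁ V) (D.app V s)

variable {x y f}

theorem sec_res (D : OmegaSh.Der y (fO f)) {V V' : Y.Opens} (h : V ≤ V') (s : Γ(Y, V')) :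
    sec y f D V (Y.presheaf.map (homOfLE h).op s) =
      X.presheaf.map (homOfLE (f.preimage_mono h)).op (sec y f D V' s) :=
  congrArg (OmegaSh.fnSect X (f ⁻¹ᵁ V)) (OmegaLib.app_map D h s)

theorem sec_add (D : OmegaSh.Der y (fO f)) (V : Y.Opens) (s t : Γ(Y, V)) :
    sec y f D V (s + t) = sec y f D V s + sec y f D V t :=
  congrArg (OmegaSh.fnSect X (f ⁻¹ᵁ V)) (map_add (D.app V) s t)

theorem sec_mul (D : OmegaSh.Der y (fO f)) (V : Y.Opens) (a b : Γ(Y, V)) :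
    sec y f D V (a * b) = f.app V a * sec y f D V b + f.app V b * sec y f D V a :=
  congrArg (OmegaSh.fnSect X (f ⁻¹ᵁ V)) (OmegaLib.app_mul D V a b)

theorem sec_one (D : OmegaSh.Der y (fO f)) (V : Y.Opens) : sec y f D V 1 = 0 :=
  congrArg (OmegaSh.fnSect X (f ⁻¹ᵁ V)) (OmegaLib.app_one D V)

theorem sec_zero (D : OmegaSh.Der y (fO f)) (V : Y.Opens) : sec y f D V 0 = 0 :=
  congrArg (OmegaSh.fnSect X (f ⁻¹ᵁ V)) (map_zero (D.app V))

theorem sec_const (D : OmegaSh.Der y (fO f)) (V : Y.Opens) (c : k) : sec y f D V (strMap y V c) = 0 :=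
  congrArg (OmegaSh.fnSect X (f ⁻¹ᵁ V)) (OmegaLib.app_appLE D (top_le_preimage y V) _)

theorem der_ext {D D' : OmegaSh.Der y (fO f)}
    (h : ∀ (U : X.affineOpens) (V : Y.affineOpens) (h : U.1 ≤ f ⁻¹ᵁ V.1) (s : Γ(Y, V.1)),
      X.presheaf.map (homOfLE h).op (sec y f D V.1 s) = X.presheaf.map (homOfLE h).op (sec y f D' V.1 s)) :
    D = D' := by
  have key : ∀ (W : Y.Opens) (s : Γ(Y, W)), sec y f D W s = sec y f D' W s := by
    intro W s
    refine TopCat.Presheaf.IsSheaf.section_ext X.sheaf.property fun z hz => ?_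
    obtain ⟨V, hV, hzV, hVW⟩ := Opens.isBasis_iff_nbhd.mp Y.isBasis_affineOpens (show f z ∈ W from hz)
    obtain ⟨U, hU, hzU, hUV⟩ := Opens.isBasis_iff_nbhd.mp X.isBasis_affineOpens (show z ∈ f ⁻¹ᵁ V from hzV)
    refine ⟨U, hUV.trans (f.preimage_mono hVW), hzU, ?_⟩
    have h1 := h ⟨U, hU⟩ ⟨V, hV⟩ hUV (Y.presheaf.map (homOfLE hVW).op s)
    rw [sec_res, sec_res, ← CommRingCat.comp_apply, ← CommRingCat.comp_apply, ← Functor.map_comp] at h1
    exact h1
  refine PresheafOfModules.Derivation.ext ?_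
  funext W
  ext s
  exact key W.unop s

/-- `D` is the derivation of a deformation. -/
def IsDer (P : Pt x y f (Ad k)) (D : OmegaSh.Der y (fO f)) : Prop :=
  ∀ (U : X.affineOpens) (V : Y.affineOpens) (h : U.1 ≤ f ⁻¹ᵁ V.1) (s : Γ(Y, V.1)),
    co x U (P.hm U V.1 h s) = X.presheaf.map (homOfLE h).op (sec y f D V.1 s)

theorem IsDer.unique {P : Pt x y f (Ad k)} {D D' : OmegaSh.Der y (fO f)} (h : IsDer P D) (h' : IsDer P D') :
    D = D' :=
  der_ext fun U V hUV s => (h U V hUV s).symm.trans (h' U V hUV s)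

theorem IsDer.pt_unique {P Q : Pt x y f (Ad k)} {D : OmegaSh.Der y (fO f)} (h : IsDer P D) (h' : IsDer Q D) :
    P = Q :=
  Pt.eq_of_hm fun U V hUV s => by
    rw [← asm_incl_co x U (P.hm U V.1 hUV s), ← asm_incl_co x U (Q.hm U V.1 hUV s), Pt.incl_hm, Pt.incl_hm,
      h U V hUV s, h' U V hUV s]

theorem exists_isDer (P : Pt x y f (Ad k)) : ∃ D : OmegaSh.Der y (fO f), IsDer P D := by
  obtain ⟨β, hβres, hβco⟩ := exists_coefW x
  let hmW : ∀ V : Y.Opens, Γ(Y, V) →+* Γ(XA x (Ad k), pr x (Ad k) ⁻¹ᵁ (f ⁻¹ᵁ V)) := fun V =>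
    (P.φ.appLE V (pr x (Ad k) ⁻¹ᵁ (f ⁻¹ᵁ V)) (P.preimage_le le_rfl)).hom
  let δ : ∀ V : Y.Opens, Γ(Y, V) →+ Γ(X, f ⁻¹ᵁ V) := fun V => (β (f ⁻¹ᵁ V)).comp (hmW V).toAddMonoidHom
  have hloc : ∀ (V : Y.Opens) (U : X.affineOpens) (h : U.1 ≤ f ⁻¹ᵁ V) (s : Γ(Y, V)),
      X.presheaf.map (homOfLE h).op (δ V s) = co x U (P.hm U V h s) := by
    intro V U h s
    show X.presheaf.map (homOfLE h).op (β _ (hmW V s)) = _
    rw [← hβres h, ← hβco]
    refine congrArg (β U.1) ?_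
    show ((P.φ.appLE V (pr x (Ad k) ⁻¹ᵁ (f ⁻¹ᵁ V)) _) ≫ (XA x (Ad k)).presheaf.map _) s = _
    rw [Scheme.Hom.appLE_map]
    rfl
  have hext : ∀ (W : X.Opens) (a b : Γ(X, W)), (∀ (U : X.affineOpens) (h : U.1 ≤ W),
      X.presheaf.map (homOfLE h).op a = X.presheaf.map (homOfLE h).op b) → a = b := by
    intro W a b hab
    refine TopCat.Presheaf.IsSheaf.section_ext X.sheaf.property fun z hz => ?_
    obtain ⟨U, hU, hzU, hUW⟩ := Opens.isBasis_iff_nbhd.mp X.isBasis_affineOpens hz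
    exact ⟨U, hUW, hzU, hab ⟨U, hU⟩ hUW⟩
  have hmul : ∀ (V : Y.Opens) (a b : Γ(Y, V)), δ V (a * b) = f.app V a * δ V b + f.app V b * δ V a := by
    intro V a b
    refine hext _ _ _ fun U h => ?_
    rw [hloc, map_add, map_mul, map_mul, map_mul, hloc, hloc, co_mul, Pt.incl_hm, Pt.incl_hm]
    rfl
  have hnat : ∀ {V V' : Y.Opens} (h : V ≤ V') (s : Γ(Y, V')), δ V (Y.presheaf.map (homOfLE h).op s) =
      X.presheaf.map (homOfLE (f.preimage_mono h)).op (δ V' s) := by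
    intro V V' h s
    refine hext _ _ _ fun U hU => ?_
    have : X.presheaf.map (homOfLE hU).op (X.presheaf.map (homOfLE (f.preimage_mono h)).op (δ V' s)) =
        X.presheaf.map (homOfLE (hU.trans (f.preimage_mono h))).op (δ V' s) := by
      rw [← CommRingCat.comp_apply, ← Functor.map_comp]
      rfl
    rw [hloc, this, hloc]
    refine congrArg (co x U) ?_
    show (Y.presheaf.map (homOfLE h).op ≫ P.φ.appLE V (pU x (Ad k) U).1 _) s = _
    rw [Scheme.Hom.map_appLE]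
    rfl
  let D : OmegaSh.Der y (fO f) := PresheafOfModules.Derivation.mk
    (fun {V} => (OmegaSh.strSect X (f ⁻¹ᵁ V.unop)).comp (δ V.unop))
    (fun {V} a b => congrArg (OmegaSh.strSect X (f ⁻¹ᵁ V.unop)) (hmul V.unop a b))
    (fun {V V'} g s => congrArg (OmegaSh.strSect X (f ⁻¹ᵁ V'.unop)) (hnat (leOfHom g.unop) s))
    (fun {V} c => by
      refine Eq.trans (congrArg (OmegaSh.strSect X (f ⁻¹ᵁ (y ⁻¹ᵁ V.unop)))
        (show δ (y ⁻¹ᵁ V.unop) (y.app V.unop c) = 0 from ?_)) (map_zero _)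
      refine hext _ _ _ fun U hU => ?_
      rw [hloc, map_zero]
      by_cases hne : ∃ z, z ∈ U.1
      · obtain ⟨z, hz⟩ := hne
        obtain ⟨W⟩ := V
        obtain rfl := InfAut29.eq_top_of_mem (show y (f z) ∈ W from hU hz)
        show co x U (P.hm U (y ⁻¹ᵁ ⊤) hU (y.app ⊤ c)) = 0
        have hc : y.app ⊤ c = strMap y (y ⁻¹ᵁ ⊤) ((Scheme.ΓSpecIso (CommRingCat.of k)).hom c) := by
          show _ = (y.appLE ⊤ (y ⁻¹ᵁ ⊤) _) ((Scheme.ΓSpecIso (CommRingCat.of k)).inv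
            ((Scheme.ΓSpecIso (CommRingCat.of k)).hom c))
          rw [← CommRingCat.comp_apply (Scheme.ΓSpecIso (CommRingCat.of k)).hom, Iso.hom_inv_id, Scheme.Hom.app_eq_appLE]
          rfl
        rw [hc, Pt.hm_const, co_jm]
      · have hbot : U.1 = ⊥ := le_bot_iff.1 fun z hz => (hne ⟨z, hz⟩).elim
        haveI : Subsingleton Γ(X, U.1) := by rw [hbot]; infer_instance
        exact Subsingleton.elim _ _)
  exact ⟨D, fun U V h s => (hloc V.1 U h s).symm⟩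

theorem exists_pt (hfy : f ≫ y = x) (D : OmegaSh.Der y (fO f)) : ∃ P : Pt x y f (Ad k), IsDer P D := by
  let q := pr x (Ad k) ≫ f
  let eW : ∀ W : (XA x (Ad k)).Opens, Γ(XA x (Ad k), W) := fun W => strMap (XApr x (Ad k)) W (epsd k)
  have heW : ∀ W, eW W * eW W = 0 := fun W => by
    show strMap _ _ _ * strMap _ _ _ = 0
    rw [← map_mul, epsd_sq, map_zero]
  let σ : ∀ V : Y.affineOpens, Γ(Y, V.1) ⟶ Γ(XA x (Ad k), q ⁻¹ᵁ V.1) := fun V => CommRingCat.ofHom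
    { toFun := fun s => (pr x (Ad k)).app (f ⁻¹ᵁ V.1) (f.app V.1 s) +
        eW _ * (pr x (Ad k)).app (f ⁻¹ᵁ V.1) (sec y f D V.1 s)
      map_zero' := by rw [sec_zero]; simp
      map_one' := by rw [sec_one]; simp
      map_add' := fun a b => by rw [sec_add, map_add, map_add, map_add]; ring
      map_mul' := fun a b => by
        rw [sec_mul, map_add, map_mul, map_mul, map_mul, map_mul]
        linear_combination -((pr x (Ad k)).app (f ⁻¹ᵁ V.1) (sec y f D V.1 a) *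
          (pr x (Ad k)).app (f ⁻¹ᵁ V.1) (sec y f D V.1 b)) * heW ((pr x (Ad k)) ⁻¹ᵁ (f ⁻¹ᵁ V.1)) }
  have hσ : ∀ (V V' : Y.affineOpens) (h : V.1 ≤ V'.1),
      σ V' ≫ (XA x (Ad k)).presheaf.map (homOfLE (q.preimage_mono h)).op = Y.presheaf.map (homOfLE h).op ≫ σ V := by
    intro V V' h
    ext s
    show (XA x (Ad k)).presheaf.map _ (_ + eW _ * _) = _ + eW _ * _
    have hn : ∀ t, (XA x (Ad k)).presheaf.map (homOfLE (q.preimage_mono h)).op ((pr x (Ad k)).app (f ⁻¹ᵁ V'.1) t) =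
        (pr x (Ad k)).app (f ⁻¹ᵁ V.1) (X.presheaf.map (homOfLE (f.preimage_mono h)).op t) := fun t =>
      (ConcreteCategory.congr_hom ((pr x (Ad k)).naturality (homOfLE (f.preimage_mono h)).op) t).symm
    rw [map_add, map_mul, hn, hn]
    simp only [eW, res_strMap]
    refine congrArg₂ (· + ·) (congrArg ((pr x (Ad k)).app (f ⁻¹ᵁ V.1)) ?_)
      (congrArg₂ (· * ·) rfl (congrArg ((pr x (Ad k)).app (f ⁻¹ᵁ V.1)) (sec_res D h s).symm))
    exact (ConcreteCategory.congr_hom (f.naturality (homOfLE h).op) s).symm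
  obtain ⟨g, hg⟩ := InfAut29.exists_glue q σ hσ
  have hle : ∀ V : Y.affineOpens, q ⁻¹ᵁ V.1 ≤ g ⁻¹ᵁ V.1 := fun V => InfAut29.preimage_le_of_chart q σ (hg V)
  have hU : ∀ (U : X.affineOpens) (V : Y.affineOpens) (h : U.1 ≤ f ⁻¹ᵁ V.1) (e : (pU x (Ad k) U).1 ≤ g ⁻¹ᵁ V.1)
      (s : Γ(Y, V.1)), g.appLE V.1 (pU x (Ad k) U).1 e s =
        asm x U (f.appLE V.1 U.1 h s) (X.presheaf.map (homOfLE h).op (sec y f D V.1 s)) := by
    intro U V h e s
    have hle' : (pU x (Ad k) U).1 ≤ q ⁻¹ᵁ V.1 := (pr x (Ad k)).preimage_mono h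
    have h1 := IsAffineOpen.SpecMap_appLE_fromSpec g V.2 (pU x (Ad k) U).2 e
    have h2 : Spec.map (σ V ≫ (XA x (Ad k)).presheaf.map (homOfLE hle').op) ≫ V.2.fromSpec =
        (pU x (Ad k) U).2.fromSpec ≫ g := by
      rw [show (pU x (Ad k) U).2.fromSpec = (pU x (Ad k) U).2.isoSpec.inv ≫ (pU x (Ad k) U).1.ι from rfl,
        Category.assoc, ← Scheme.homOfLE_ι _ hle', Category.assoc, hg, InfAut29.chart,
        ← Category.assoc (Scheme.homOfLE _ hle'), InfAut29.toSpecΓ_natural, Category.assoc,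
        IsAffineOpen.isoSpec_inv_toSpecΓ_assoc, Spec.map_comp, Category.assoc]
    rw [← h1, cancel_mono] at h2
    rw [← Spec.map_injective h2]
    show (XA x (Ad k)).presheaf.map _ (_ + eW _ * _) = jm x (Ad k) U _ + eU x U * jm x (Ad k) U _
    have hn : ∀ t, (XA x (Ad k)).presheaf.map (homOfLE hle').op ((pr x (Ad k)).app (f ⁻¹ᵁ V.1) t) =
        jm x (Ad k) U (X.presheaf.map (homOfLE h).op t) := fun t =>
      (ConcreteCategory.congr_hom ((pr x (Ad k)).naturality (homOfLE h).op) t).symm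
    rw [map_add, map_mul, hn, hn, res_strMap]
    rfl
  have hsmall : ∀ p : (XA x (Ad k) : Scheme.{u}), ∃ (U : X.affineOpens) (V : Y.affineOpens),
      U.1 ≤ f ⁻¹ᵁ V.1 ∧ pr x (Ad k) p ∈ U.1 := by
    intro p
    obtain ⟨V, hV, hpV, -⟩ := Opens.isBasis_iff_nbhd.mp Y.isBasis_affineOpens (Opens.mem_top (f (pr x (Ad k) p)))
    obtain ⟨U, hU, hpU, hUV⟩ := Opens.isBasis_iff_nbhd.mp X.isBasis_affineOpens (show pr x (Ad k) p ∈ f ⁻¹ᵁ V from hpV)
    exact ⟨⟨U, hU⟩, ⟨V, hV⟩, hUV, hpU⟩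
  have hgy : g ≫ y = pr x (Ad k) ≫ x := by
    refine eq_of_appLE _ _ fun p => ?_
    obtain ⟨U, V, hUV, hp⟩ := hsmall p
    have e : (pU x (Ad k) U).1 ≤ g ⁻¹ᵁ V.1 := ((pr x (Ad k)).preimage_mono hUV).trans (hle V)
    refine ⟨pU x (Ad k) U, ⟨⊤, isAffineOpen_top _⟩, top_le_preimage _ _, top_le_preimage _ _, hp, ?_⟩
    rw [← cancel_epi (Scheme.ΓSpecIso (CommRingCat.of k)).inv]
    ext c
    show ((g ≫ y).appLE ⊤ _ _) ((Scheme.ΓSpecIso (CommRingCat.of k)).inv c) =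
      ((pr x (Ad k) ≫ x).appLE ⊤ _ _) ((Scheme.ΓSpecIso (CommRingCat.of k)).inv c)
    rw [← Scheme.Hom.appLE_comp_appLE g y ⊤ V.1 (pU x (Ad k) U).1 (top_le_preimage y V.1) e,
      ← Scheme.Hom.appLE_comp_appLE (pr x (Ad k)) x ⊤ U.1 (pU x (Ad k) U).1 (top_le_preimage x U.1) le_rfl,
      show (pr x (Ad k)).appLE U.1 (pU x (Ad k) U).1 le_rfl = (pr x (Ad k)).app U.1 from
        (pr x (Ad k)).app_eq_appLE.symm]
    show g.appLE V.1 _ e (strMap y V.1 c) = jm x (Ad k) U (strMap x U.1 c)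
    rw [hU U V hUV, sec_const, map_zero]
    have hc : f.appLE V.1 U.1 hUV (strMap y V.1 c) = strMap x U.1 c := by
      show (y.appLE ⊤ V.1 _ ≫ f.appLE V.1 U.1 hUV) ((Scheme.ΓSpecIso (CommRingCat.of k)).inv c) = _
      rw [Scheme.Hom.appLE_comp_appLE]
      simp only [hfy]
      rfl
    rw [hc]
    simp [asm]
  have hgi : XAincl x (Ad k) ≫ g = f := by
    refine eq_of_appLE _ _ fun z => ?_
    obtain ⟨U, V, hUV, hp⟩ := hsmall (XAincl x (Ad k) z)
    have e : (pU x (Ad k) U).1 ≤ g ⁻¹ᵁ V.1 := ((pr x (Ad k)).preimage_mono hUV).trans (hle V)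
    have hi : U.1 ≤ XAincl x (Ad k) ⁻¹ᵁ (pU x (Ad k) U).1 := (incl_preimage x (Ad k) U).ge
    refine ⟨U, V, hi.trans ((XAincl x (Ad k)).preimage_mono e), hUV,
      (incl_preimage x (Ad k) U).le hp, ?_⟩
    ext s
    rw [← Scheme.Hom.appLE_comp_appLE (XAincl x (Ad k)) g V.1 (pU x (Ad k) U).1 U.1 e hi, CommRingCat.comp_apply, hU U V hUV]
    exact incl_asm x U _ _
  refine ⟨⟨g, hgy, hgi⟩, fun U V h s => ?_⟩
  show co x U (g.appLE V.1 _ _ s) = _
  rw [hU U V h, co_asm]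

end Groth.Agent.HomTan29
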