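import Groth.Agent.HomTan29.Hom
import Groth.Agent.HilbT29.Finrank
import Mathlib.CategoryTheory.Monoidal.Cartesian.Over

/-!
# The tangent space of a scheme of morphisms
-/

set_option autoImplicit false
set_option backward.isDefEq.respectTransparency.types false
set_option backward.isDefEq.respectTransparency false
set_option linter.style.haveILetI false
universe u

open CategoryTheory CategoryTheory.Limits MonoidalCategory CartesianMonoidalCategory AlgebraicGeometry TopologicalSpace Opposite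
open ArtFun ArtFun.Art
open Groth.Agent.ArtGlobal29 Groth.Agent.HilbT29 Groth.Agent.H8Coh.RatTangent
open IsLocalRing (CotangentSpace maximalIdeal)

noncomputable section

namespace Groth.Agent.HomTan29

variable {k : Type u} [Field k] {X Y : Scheme.{u}} {x : X ⟶ specPt k} {y : Y ⟶ specPt k} {f : X ⟶ Y}
  {M : Over (specPt k)} (υ : Over.mk x ⊗ M ⟶ Over.mk y) {h : Over.mk (𝟙 (specPt k)) ⟶ M}
  (hh : (Over.mk x ◁ h).left ≫ υ.left = pullback.fst x (𝟙 (specPt k)) ≫ f)

/-- The family of a point. -/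
def famOf {A : Art k k} (g : overA A ⟶ M) : XA x A ⟶ Y := (Over.mk x ◁ g).left ≫ υ.left

theorem specRes_specOver (A : Art k k) : specRes A ≫ specOver A = 𝟙 (specPt k) :=
  ((specRes_comp (ofBase A)).trans (Category.id_comp _).symm).trans (comp_specRes_base _)

include hh in
theorem incl_famOf {A : Art k k} (g : overA A ⟶ M) (hg : specRes A ≫ g.left = h.left) :
    XAincl x A ≫ famOf υ g = f := by
  let j : X ⟶ pullback x (𝟙 (specPt k)) := pullback.lift (𝟙 X) x (by simp)
  have e : XAincl x A ≫ (Over.mk x ◁ g).left = j ≫ (Over.mk x ◁ h).left := by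
    refine pullback.hom_ext ?_ ?_
    · show (XAincl x A ≫ (Over.mk x ◁ g).left) ≫ _ = (j ≫ (Over.mk x ◁ h).left) ≫ _
      rw [Category.assoc, Category.assoc]
      refine (congrArg (XAincl x A ≫ ·) (Over.whiskerLeft_left_fst (R := Over.mk x) g)).trans ?_
      refine Eq.trans ?_ (congrArg (j ≫ ·) (Over.whiskerLeft_left_fst (R := Over.mk x) h)).symm
      exact (XAincl_fst x A).trans (pullback.lift_fst _ _ _).symm
    · show (XAincl x A ≫ (Over.mk x ◁ g).left) ≫ _ = (j ≫ (Over.mk x ◁ h).left) ≫ _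
      rw [Category.assoc, Category.assoc]
      refine (congrArg (XAincl x A ≫ ·) (Over.whiskerLeft_left_snd (R := Over.mk x) g)).trans ?_
      refine Eq.trans ?_ (congrArg (j ≫ ·) (Over.whiskerLeft_left_snd (R := Over.mk x) h)).symm
      show XAincl x A ≫ XApr x A ≫ g.left = j ≫ pullback.snd x (𝟙 _) ≫ h.left
      rw [← Category.assoc, XAincl_snd, Category.assoc, hg, ← Category.assoc, pullback.lift_snd]
  rw [famOf, ← Category.assoc]
  refine (congrArg (· ≫ υ.left) e).trans ?_
  rw [Category.assoc, hh, ← Category.assoc, pullback.lift_fst, Category.id_comp]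

/-- The deformation of a centred point. -/
def ptOf {A : Art k k} (g : overA A ⟶ M) (hg : specRes A ≫ g.left = h.left) : Pt x y f A where
  φ := famOf υ g
  hw := by
    refine (Category.assoc _ _ _).trans ((congrArg ((Over.mk x ◁ g).left ≫ ·) (Over.w υ)).trans ?_)
    show (Over.mk x ◁ g).left ≫ pullback.fst x M.hom ≫ x = _
    rw [← Category.assoc]
    exact congrArg (· ≫ x) (Over.whiskerLeft_left_fst (R := Over.mk x) g)
  hc := incl_famOf υ hh g hg

theorem ptOf_map {A B : Art k k} (α : A ⟶ B) (g : overA A ⟶ M) (hg : specRes A ≫ g.left = h.left)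
    (g' : overA B ⟶ M) (hg' : specRes B ≫ g'.left = h.left) (he : g'.left = specMap α ≫ g.left) :
    (ptOf υ hh g hg).map α = ptOf υ hh g' hg' := by
  refine Pt.ext' ?_
  show XAmap x α ≫ (Over.mk x ◁ g).left ≫ υ.left = (Over.mk x ◁ g').left ≫ υ.left
  rw [← Category.assoc]
  refine congrArg (· ≫ υ.left) (pullback.hom_ext ?_ ?_)
  · show (XAmap x α ≫ (Over.mk x ◁ g).left) ≫ _ = (Over.mk x ◁ g').left ≫ _
    rw [Category.assoc]
    refine (congrArg (XAmap x α ≫ ·) (Over.whiskerLeft_left_fst (R := Over.mk x) g)).trans ?_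
    exact (XAmap_fst x α).trans (Over.whiskerLeft_left_fst (R := Over.mk x) g').symm
  · show (XAmap x α ≫ (Over.mk x ◁ g).left) ≫ _ = (Over.mk x ◁ g').left ≫ _
    rw [Category.assoc]
    refine (congrArg (XAmap x α ≫ ·) (Over.whiskerLeft_left_snd (R := Over.mk x) g)).trans ?_
    refine Eq.trans ?_ (Over.whiskerLeft_left_snd (R := Over.mk x) g').symm
    show XAmap x α ≫ XApr x A ≫ g.left = XApr x B ≫ g'.left
    rw [← Category.assoc, XAmap_snd, Category.assoc, he]

variable (hM : ∀ (T : Over (specPt k)) (φ : Over.mk x ⊗ T ⟶ Over.mk y), ∃! a : T ⟶ M, (Over.mk x ◁ a) ≫ υ = φ)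

include hM in
theorem exists_ptOf {A : Art k k} (P : Pt x y f A) :
    ∃ (g : overA A ⟶ M) (hg : specRes A ≫ g.left = h.left), ptOf υ hh g hg = P := by
  let φ : Over.mk x ⊗ overA A ⟶ Over.mk y := Over.homMk P.φ P.hw
  obtain ⟨g, hg, -⟩ := hM _ φ
  have hφ : famOf υ g = P.φ := congrArg CommaMorphism.left hg
  have hw : (specRes A ≫ g.left) ≫ M.hom = 𝟙 (specPt k) := by
    rw [Category.assoc, Over.w g]
    exact specRes_specOver A
  let a' : Over.mk (𝟙 (specPt k)) ⟶ M := Over.homMk (specRes A ≫ g.left) hw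
  obtain ⟨a₀, -, huniq⟩ := hM _ ((Over.mk x ◁ h) ≫ υ)
  have ha' : (Over.mk x ◁ a') ≫ υ = (Over.mk x ◁ h) ≫ υ := by
    refine Over.OverMorphism.ext ?_
    show (Over.mk x ◁ a').left ≫ υ.left = (Over.mk x ◁ h).left ≫ υ.left
    rw [hh]
    have e : (Over.mk x ◁ a').left = pullback.fst x (𝟙 (specPt k)) ≫ XAincl x A ≫ (Over.mk x ◁ g).left := by
      refine pullback.hom_ext ?_ ?_
      · show (Over.mk x ◁ a').left ≫ _ = (pullback.fst x (𝟙 _) ≫ XAincl x A ≫ (Over.mk x ◁ g).left) ≫ _
        rw [Category.assoc, Category.assoc]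
        refine (Over.whiskerLeft_left_fst (R := Over.mk x) a').trans ?_
        refine Eq.trans ?_ (congrArg (fun z => pullback.fst x (𝟙 _) ≫ XAincl x A ≫ z) (Over.whiskerLeft_left_fst (R := Over.mk x) g)).symm
        refine Eq.trans ?_ (congrArg (pullback.fst x (𝟙 _) ≫ ·) (XAincl_fst x A)).symm
        exact (Category.comp_id _).symm
      · show (Over.mk x ◁ a').left ≫ _ = (pullback.fst x (𝟙 _) ≫ XAincl x A ≫ (Over.mk x ◁ g).left) ≫ _
        rw [Category.assoc, Category.assoc]
        refine (Over.whiskerLeft_left_snd (R := Over.mk x) a').trans ?_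
        refine Eq.trans ?_ (congrArg (fun z => pullback.fst x (𝟙 _) ≫ XAincl x A ≫ z) (Over.whiskerLeft_left_snd (R := Over.mk x) g)).symm
        show pullback.snd x (𝟙 _) ≫ specRes A ≫ g.left = pullback.fst x (𝟙 _) ≫ XAincl x A ≫ XApr x A ≫ g.left
        rw [← Category.assoc (XAincl x A), XAincl_snd, Category.assoc, ← Category.assoc (pullback.fst x (𝟙 _)),
          pullback.condition, Category.comp_id]
    rw [e, Category.assoc, Category.assoc]
    show pullback.fst x (𝟙 _) ≫ XAincl x A ≫ famOf υ g = _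
    rw [hφ, P.hc]
  have hc : specRes A ≫ g.left = h.left :=
    congrArg CommaMorphism.left ((huniq a' ha').trans (huniq h rfl).symm)
  exact ⟨g, hc, Pt.ext' hφ⟩

include hM in
theorem eq_of_ptOf_eq {A : Art k k} (g g' : overA A ⟶ M) {hg : specRes A ≫ g.left = h.left}
    {hg' : specRes A ≫ g'.left = h.left} (he : ptOf υ hh g hg = ptOf υ hh g' hg') : g = g' :=
  (hM _ ((Over.mk x ◁ g) ≫ υ)).unique rfl
    (Over.OverMorphism.ext (congrArg Pt.φ he).symm)

include hh hM in
theorem nonempty_dual_equiv_hom [QuasiSeparated y] (hfy : f ≫ y = x) [X.Over (Spec (CommRingCat.of k))]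
    (hx : X ↘ Spec (CommRingCat.of k) = x) :
    letI := (ρ M.hom h.left).toAlgebra
    Nonempty ((CotangentSpace (M.left.presheaf.stalk (pt h.left)) →ₗ[k] k) ≃ₗ[k]
      ((Scheme.Modules.pullback f).obj (Omega.sheaf y) ⟶ Coh.structureModule X)) := by
  have hs : h.left ≫ M.hom = 𝟙 (specPt k) := Over.w h
  let O : Type u := M.left.presheaf.stalk (pt h.left)
  letI : Algebra k O := (ρ M.hom h.left).toAlgebra
  choose v θ hv hθ hsnd using fun E : CotangentSpace O →ₗ[k] k => exists_of_cotForm M.hom h.left hs E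
  let J : (CotangentSpace O →ₗ[k] k) → Pt x y f (Ad k) := fun E =>
    ptOf υ hh (A := Ad k) (Over.homMk (v E) (over_eq (hv E))) (centre_eq (hv E))
  have hmap : ∀ {A : Art k k} (g : overA A ⟶ M) (hg : specRes A ≫ g.left = h.left) (α : A ⟶ Ad k)
      (E : CotangentSpace O →ₗ[k] k), v E = specMap α ≫ g.left → (ptOf υ hh g hg).map α = J E :=
    fun g hg α E he => ptOf_map υ hh α g hg _ _ he
  choose D hD using fun P : Pt x y f (Ad k) => exists_isDer P
  let e₀ : (CotangentSpace O →ₗ[k] k) → ((Scheme.Modules.pullback f).obj (Omega.sheaf y) ⟶ Coh.structureModule X) :=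
    fun E => (Equiv.ofBijective _ (bijective_derOf f)).symm (D (J E))
  have he₀ : ∀ E, derOf f (e₀ E) = D (J E) := fun E =>
    (Equiv.ofBijective _ (bijective_derOf f)).apply_symm_apply _
  have hco : ∀ E (U : X.affineOpens) (V : Y.affineOpens) (hUV : U.1 ≤ f ⁻¹ᵁ V.1) (s : Γ(Y, V.1)),
      X.presheaf.map (homOfLE hUV).op (sec y f (derOf f (e₀ E)) V.1 s) = co x U ((J E).hm U V.1 hUV s) := by
    intro E U V hUV s
    rw [he₀]
    exact (hD (J E) U V hUV s).symm
  have hDbij : Function.Bijective fun P : Pt x y f (Ad k) => D P := by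
    refine ⟨fun P Q hPQ => (hD P).pt_unique ((show D P = D Q from hPQ) ▸ hD Q), fun D₀ => ?_⟩
    obtain ⟨P, hP⟩ := exists_pt hfy D₀
    exact ⟨P, (hD P).unique hP⟩
  have hbij : Function.Bijective e₀ := by
    refine (Equiv.bijective _).comp (hDbij.comp ⟨fun E E' he => ?_, fun P => ?_⟩)
    · have h1 := eq_of_ptOf_eq υ hh hM _ _ he
      have h2 : v E = v E' := congrArg (fun g => g.left) h1
      have h3 : θ E = θ E' := (hθ E).unique M.hom h.left hs (h2 ▸ hθ E')
      refine LinearMap.ext fun z => ?_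
      obtain ⟨z, rfl⟩ := (maximalIdeal O).toCotangent_surjective z
      rw [← hsnd, ← hsnd, h3]
    · obtain ⟨g, hg, rfl⟩ := exists_ptOf υ hh hM P
      have hc : Centred M.hom h.left (show Spec (CommRingCat.of (DualNumber k)) ⟶ M.left from g.left) := by
        refine ⟨?_, ?_⟩
        · refine (Over.w g).trans ?_
          rw [← Spec.map_comp, ← CommRingCat.ofHom_comp]
          rfl
        · refine hg.trans ?_
          rw [show Spec.map (CommRingCat.ofHom (algebraMap k k)) = 𝟙 _ by
            rw [show CommRingCat.ofHom (algebraMap k k) = 𝟙 _ from rfl, Spec.map_id], Category.id_comp]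
      obtain ⟨θ₀, hθ₀⟩ := exists_theta M.hom h.left hs hc
      obtain ⟨E, hE⟩ := exists_cotForm M.hom h.left hs hθ₀
      refine ⟨E, Pt.ext' (congrArg (famOf υ) ?_)⟩
      exact Over.OverMorphism.ext (theta_ext hs (hθ E) hθ₀ fun z => (hsnd E z).trans (hE z))
  have hscale : ∀ (c : k) E, (J E).map (scale c) = J (c • E) := by
    intro c E
    refine hmap _ _ (scale c) (c • E) ?_
    refine (theta_ext hs (hθ (c • E)) ((hθ E).map M.hom h.left hs (c • LinearMap.id)) fun z => ?_).trans ?_
    · show _ = (TrivSqZeroExt.map (c • LinearMap.id) (θ E z)).snd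
      rw [TrivSqZeroExt.snd_map, hsnd, hsnd]
      rfl
    · show Spec.map _ ≫ v E = Spec.map _ ≫ v E
      exact congrArg (fun r => Spec.map (CommRingCat.ofHom r) ≫ v E) (tszeMap_eq _).symm
  have hadd : ∀ E E', ∃ z : Pt x y f (Ad2 k), z.map Art.pr₁ = J E ∧ z.map Art.pr₂ = J E' ∧
      z.map Art.plus = J (E + E') := by
    intro E E'
    let θ₂ : O →+* TrivSqZeroExt k (k × k) :=
      { toFun := fun a => TrivSqZeroExt.inl (χ h.left a) + TrivSqZeroExt.inr ((θ E a).snd, (θ E' a).snd)
        map_one' := by ext <;> simp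
        map_zero' := by ext <;> simp
        map_add' := fun a b => by ext <;> simp
        map_mul' := fun a b => TrivSqZeroExt.ext (by simp) (Prod.ext
          (by simp [(hθ E).fst, TrivSqZeroExt.snd_mul, op_smul_eq_smul])
          (by simp [(hθ E').fst, TrivSqZeroExt.snd_mul, op_smul_eq_smul])) }
    let v₂ : Spec (CommRingCat.of (TrivSqZeroExt k (k × k))) ⟶ M.left :=
      Spec.map (CommRingCat.ofHom θ₂) ≫ M.left.fromSpecStalk (pt h.left)
    have hbase : ∀ c, θ₂ (ρ M.hom h.left c) = algebraMap k (TrivSqZeroExt k (k × k)) c := fun c => by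
      rw [TrivSqZeroExt.algebraMap_eq_inl]
      refine TrivSqZeroExt.ext ?_ (Prod.ext ?_ ?_)
      · simp [θ₂, χ_ρ_apply M.hom h.left hs]
      · simp [θ₂, (hθ E).base, TrivSqZeroExt.algebraMap_eq_inl]
      · simp [θ₂, (hθ E').base, TrivSqZeroExt.algebraMap_eq_inl]
    have hover : v₂ ≫ M.hom = specOver (Ad2 k) := by
      rw [Category.assoc, ← specMap_ρ M.hom h.left, ← Spec.map_comp, ← CommRingCat.ofHom_comp]
      congr 2
      exact RingHom.ext hbase
    have hcen : specRes (Ad2 k) ≫ v₂ = h.left := by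
      conv_rhs => rw [← specMap_χ h.left]
      rw [← Category.assoc]
      show (Spec.map _ ≫ Spec.map _) ≫ _ = _
      rw [← Spec.map_comp, ← CommRingCat.ofHom_comp]
      congr 3
      refine RingHom.ext fun a => ?_
      show TrivSqZeroExt.fst (θ₂ a) = _
      simp [θ₂]
      rfl
    have hpr : ∀ (l : k × k →ₗ[k] k) (E₀ : CotangentSpace O →ₗ[k] k),
        (∀ z : maximalIdeal O, (θ E₀ z).snd = l ((θ E z).snd, (θ E' z).snd)) →
        v E₀ = Spec.map (CommRingCat.ofHom (tszeMap (Λ := k) l).toRingHom) ≫ v₂ := by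
      intro l E₀ hl
      rw [tszeMap_eq]
      have h₂ : IsTheta M.hom h.left v₂ θ₂ := ⟨rfl, fun a => by simp [θ₂], hbase⟩
      refine theta_ext hs (hθ E₀) (h₂.map M.hom h.left hs l) fun z => ?_
      show _ = (TrivSqZeroExt.map l (θ₂ z)).snd
      rw [TrivSqZeroExt.snd_map, hl]
      simp [θ₂]
    refine ⟨ptOf υ hh (A := Ad2 k) (Over.homMk v₂ hover) hcen, hmap _ _ Art.pr₁ E ?_, hmap _ _ Art.pr₂ E' ?_,
      hmap _ _ Art.plus (E + E') ?_⟩
    · exact hpr _ E fun z => rfl
    · exact hpr _ E' fun z => rfl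
    · refine hpr _ (E + E') fun z => ?_
      rw [hsnd]
      simp [hsnd]
  refine ⟨{ Equiv.ofBijective e₀ hbij with
    map_add' := fun E E' => (bijective_derOf f).1 (der_ext fun U V hUV s => ?_)
    map_smul' := fun c E => (bijective_derOf f).1 (der_ext fun U V hUV s => ?_) }⟩
  · show X.presheaf.map (homOfLE hUV).op (sec y f (derOf f (e₀ (E + E'))) V.1 s) =
      X.presheaf.map (homOfLE hUV).op (sec y f (derOf f (e₀ E + e₀ E')) V.1 s)
    obtain ⟨z, h₁, h₂, h₃⟩ := hadd E E'
    rw [sec_derOf_add, map_add, hco, hco, hco, ← h₁, ← h₂, ← h₃, Pt.hm_map, Pt.hm_map, Pt.hm_map]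
    exact co_plus U _
  · show X.presheaf.map (homOfLE hUV).op (sec y f (derOf f (e₀ (c • E))) V.1 s) =
      X.presheaf.map (homOfLE hUV).op (sec y f (derOf f (c • e₀ E)) V.1 s)
    rw [sec_derOf_smul f hx, map_mul, res_strMap, hco, hco, ← hscale, Pt.hm_map]
    exact co_scale c U _

end Groth.Agent.HomTan29
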