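import Groth.Agent.HomTan29.Der
import Groth.Agent.HilbT29.HomSheaf
import Groth.Agent.S5005

/-!
# Linearity, and derivations as homomorphisms from the pulled back differentials
-/

set_option autoImplicit false
set_option backward.isDefEq.respectTransparency.types false
set_option backward.isDefEq.respectTransparency false
set_option linter.style.haveILetI false

universe u

open CategoryTheory CategoryTheory.Limits AlgebraicGeometry TopologicalSpace Opposite ArtFun ArtFun.Art
open Groth.Agent.ArtGlobal29 Groth.Agent.HilbT29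

noncomputable section

namespace Groth.Agent.HomTan29

variable {k : Type u} [Field k] {X Y : Scheme.{u}} {x : X ⟶ specPt k} {y : Y ⟶ specPt k} {f : X ⟶ Y}

theorem co_scale (c : k) (U : X.affineOpens) (t : Γ(XA x (Ad k), (pU x (Ad k) U).1)) :
    co x U (mapU x (Ad k) (scale c) U t) = strMap x U.1 c * co x U t := by
  obtain ⟨a, b, rfl⟩ := exists_asm x U t
  have : mapU x (Ad k) (scale c) U (asm x U a b) = asm x U a (strMap x U.1 c * b) := by
    simp only [asm, eU, map_add, map_mul, mapU_jm, mapU_am, scale_epsd, jm_strMap]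
    ring
  rw [this, co_asm, co_asm]

theorem co_plus (U : X.affineOpens) (t : Γ(XA x (Ad2 k), (pU x (Ad2 k) U).1)) :
    co x U (mapU x (Ad2 k) Art.plus U t) =
      co x U (mapU x (Ad2 k) Art.pr₁ U t) + co x U (mapU x (Ad2 k) Art.pr₂ U t) := by
  obtain ⟨a, b₁, b₂, rfl⟩ := exists_decomp2 x U t
  show co x U (mapU x (Ad2 k) Art.plus U (asm2 x U a b₁ b₂)) =
    co x U (mapU x (Ad2 k) Art.pr₁ U (asm2 x U a b₁ b₂)) + co x U (mapU x (Ad2 k) Art.pr₂ U (asm2 x U a b₁ b₂))
  rw [mapU_pr₁, mapU_pr₂,
    mapU_asm2 x Art.plus 1 1 ((tsze_inr _ _).trans (by simp; rfl)) ((tsze_inr _ _).trans (by simp; rfl)),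
    co_asm, co_asm, co_asm]
  simp

variable (f)

/-- The derivation of a homomorphism from the pulled back differentials. -/
def derOf [QuasiSeparated y] (α : (Scheme.Modules.pullback f).obj (Omega.sheaf y) ⟶ Coh.structureModule X) :
    OmegaSh.Der y (fO f) :=
  (OmegaSh.dOmega y).postcomp ((Scheme.Modules.pullbackPushforwardAdjunction f).homEquiv _ _ α).val

theorem bijective_derOf [QuasiSeparated y] : Function.Bijective (derOf (y := y) f) := by
  have h : Function.Bijective fun β : Omega.sheaf y ⟶ fO f => (OmegaSh.dOmega y).postcomp β.val :=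
    (Function.bijective_iff_existsUnique _).2 fun D => S5005.result y (fO f) D
  exact h.comp ((Scheme.Modules.pullbackPushforwardAdjunction f).homEquiv _ _).bijective

theorem sec_derOf [QuasiSeparated y] (α : (Scheme.Modules.pullback f).obj (Omega.sheaf y) ⟶ Coh.structureModule X)
    (V : Y.Opens) (s : Γ(Y, V)) : sec y f (derOf f α) V s =
      OmegaSh.fnSect X (f ⁻¹ᵁ V) (α.app (f ⁻¹ᵁ V)
        (((Scheme.Modules.pullbackPushforwardAdjunction f).unit.app (Omega.sheaf y)).app V
          ((OmegaSh.dOmega y).app V s))) := by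
  rw [sec, derOf, Adjunction.homEquiv_unit]
  rfl

theorem sec_derOf_add [QuasiSeparated y]
    (α α' : (Scheme.Modules.pullback f).obj (Omega.sheaf y) ⟶ Coh.structureModule X) (V : Y.Opens) (s : Γ(Y, V)) :
    sec y f (derOf f (α + α')) V s = sec y f (derOf f α) V s + sec y f (derOf f α') V s := by
  rw [sec_derOf, sec_derOf, sec_derOf, ← map_add (OmegaSh.fnSect X (f ⁻¹ᵁ V))]
  rfl

theorem sec_derOf_smul [QuasiSeparated y] [X.Over (Spec (CommRingCat.of k))]
    (hx : X ↘ Spec (CommRingCat.of k) = x) (c : k)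
    (α : (Scheme.Modules.pullback f).obj (Omega.sheaf y) ⟶ Coh.structureModule X) (V : Y.Opens) (s : Γ(Y, V)) :
    sec y f (derOf f (c • α)) V s = strMap x (f ⁻¹ᵁ V) c * sec y f (derOf f α) V s := by
  subst hx
  rw [sec_derOf, sec_derOf, ← res_toGlobal_eq_strMap]
  exact congrArg (OmegaSh.fnSect X (f ⁻¹ᵁ V)) (KLin.smul_app_apply c α (f ⁻¹ᵁ V) _)

end Groth.Agent.HomTan29
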